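import Groth.Agent.Depth.Basic
import Groth.Agent.Depth.Local
import Mathlib.RingTheory.Regular.Flat
import Mathlib.RingTheory.Flat.Basic

/-!
Depth at least two for the kernel of a map of modules: either both are flat, or the maximal ideal
acts on both as the unit ideal.
-/

namespace Groth.Agent.Depth47

open RingTheory.Sequence Pointwise

universe u

variable {R : Type u} [CommRing R] [IsLocalRing R] {M A B : Type u}
  [AddCommGroup M] [Module R M] [AddCommGroup A] [Module R A] [AddCommGroup B] [Module R B]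

theorem flat_isSMulRegular [Module.Flat R A] {x : R} (hx : IsSMulRegular R x) :
    IsSMulRegular A x := by
  have h := Module.Flat.lTensor_preserves_injective_linearMap (M := A) (LinearMap.lsmul R R x) hx
  intro a b hab
  apply (TensorProduct.rid R A).symm.injective
  apply h
  simp only [TensorProduct.rid_symm_apply, LinearMap.lTensor_tmul, LinearMap.lsmul_apply]
  rw [TensorProduct.tmul_smul, TensorProduct.tmul_smul, TensorProduct.smul_tmul',
    TensorProduct.smul_tmul']
  exact congrArg (fun c => c ⊗ₜ[R] (1 : R)) hab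

theorem flat_isSMulRegular_quot [Module.Flat R A] {x y : R}
    (hy : IsSMulRegular (QuotSMulTop x R) y) : IsSMulRegular (QuotSMulTop x A) y := by
  have h := Module.Flat.lTensor_preserves_injective_linearMap (M := A)
    (LinearMap.lsmul R (QuotSMulTop x R) y) hy
  let e : TensorProduct R A (QuotSMulTop x R) ≃ₗ[R] QuotSMulTop x A :=
    QuotSMulTop.tensorQuotSMulTopEquivQuotSMulTop x A R ≪≫ₗ
      QuotSMulTop.congr x (TensorProduct.rid R A)
  have h2 : (LinearMap.lsmul R (QuotSMulTop x R) y).lTensor A =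
      LinearMap.lsmul R (TensorProduct R A (QuotSMulTop x R)) y := by
    apply TensorProduct.ext'
    intro a q
    simp [TensorProduct.tmul_smul]
  rw [h2] at h
  intro a b hab
  apply e.symm.injective
  apply h
  simp only [LinearMap.lsmul_apply]
  rw [← map_smul, ← map_smul]
  exact congrArg _ hab

variable (d₀ : M →ₗ[R] A) (d₁ : A →ₗ[R] B) (h₀ : Function.Injective d₀)
  (hex : Function.Exact d₀ d₁)

include hex in
theorem isSMulRegular_of_ker (hA : Function.Injective d₀) {x : R} (hx : IsSMulRegular A x) :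
    IsSMulRegular M x := fun a b hab => hA (hx (by
  change x • d₀ a = x • d₀ b
  rw [← map_smul, ← map_smul]
  exact congrArg d₀ hab))

include hex h₀ in
theorem quot_regular_of_ker {x y : R} (hxB : IsSMulRegular B x)
    (hy : IsSMulRegular (QuotSMulTop x A) y) : IsSMulRegular (QuotSMulTop x M) y := by
  rw [isSMulRegular_iff_right_eq_zero_of_smul] at hy ⊢
  intro q
  obtain ⟨m, rfl⟩ := Submodule.Quotient.mk_surjective _ q
  intro hm
  rw [← Submodule.Quotient.mk_smul, Submodule.Quotient.mk_eq_zero,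
    Submodule.mem_smul_pointwise_iff_exists] at hm
  obtain ⟨m', -, hm'⟩ := hm
  have hA : (Submodule.Quotient.mk (d₀ m) : QuotSMulTop x A) = 0 := by
    apply hy
    rw [← Submodule.Quotient.mk_smul, Submodule.Quotient.mk_eq_zero, ← map_smul, ← hm',
      map_smul]
    exact Submodule.smul_mem_pointwise_smul _ _ _ trivial
  rw [Submodule.Quotient.mk_eq_zero, Submodule.mem_smul_pointwise_iff_exists] at hA
  obtain ⟨a, -, ha⟩ := hA
  have hda : d₁ a = 0 := by
    apply (isSMulRegular_iff_right_eq_zero_of_smul).1 hxB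
    rw [← map_smul, ha]
    exact (hex (d₀ m)).2 ⟨m, rfl⟩
  obtain ⟨m₁, rfl⟩ := (hex a).1 hda
  rw [Submodule.Quotient.mk_eq_zero]
  have : x • m₁ = m := h₀ (by rw [map_smul, ha])
  exact this ▸ Submodule.smul_mem_pointwise_smul _ _ _ trivial

include hex h₀ in
/-- The flat case. -/
theorem depth_ge_of_flat [Module.Flat R A] [Module.Flat R B] :
    min (2 : ℕ∞) (LocCoh.depth R R) ≤ LocCoh.depth R M := by
  have hne : IsLocalRing.maximalIdeal R • (⊤ : Submodule R R) ≠ ⊤ := by
    rw [smul_eq_mul, Ideal.mul_top]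
    exact Ideal.IsPrime.ne_top'
  have key : ∀ rs : List R, IsWeaklyRegular R rs → rs.length ≤ 2 → IsWeaklyRegular M rs := by
    intro rs hrs hlen
    match rs, hlen with
    | [], _ => exact IsWeaklyRegular.nil R M
    | [x], _ =>
      rw [isWeaklyRegular_singleton_iff] at hrs ⊢
      exact isSMulRegular_of_ker d₀ d₁ hex h₀ (flat_isSMulRegular hrs)
    | [x, y], _ =>
      rw [isWeaklyRegular_cons_iff, isWeaklyRegular_singleton_iff] at hrs ⊢
      exact ⟨isSMulRegular_of_ker d₀ d₁ hex h₀ (flat_isSMulRegular hrs.1),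
        quot_regular_of_ker d₀ d₁ h₀ hex (flat_isSMulRegular hrs.1)
          (flat_isSMulRegular_quot hrs.2)⟩
    | _ :: _ :: _ :: _, h => simp at h
  have main : ∀ n : ℕ, n ≤ 2 → (n : ℕ∞) ≤ LocCoh.depth R R → (n : ℕ∞) ≤ LocCoh.depth R M := by
    intro n hn hd
    obtain ⟨rs, hrs, hmem, hlen⟩ := Groth.Agent.Depth.exists_isWeaklyRegular_of_le_idealDepth hne hd
    rw [← hlen]
    exact Groth.Agent.Depth.le_idealDepth_of_isWeaklyRegular (key rs hrs (by omega)) hmem
  by_cases h : (2 : ℕ∞) ≤ LocCoh.depth R R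
  · rw [min_eq_left h]; exact main 2 le_rfl h
  · push Not at h
    rw [min_eq_right h.le]
    obtain ⟨n, hn⟩ := ENat.ne_top_iff_exists.1 (h.trans_le le_top).ne
    rw [← hn] at h ⊢
    exact main n (by exact_mod_cast h.le) hn.le

/-- `m` acts on `N` as the unit ideal. -/
def Covered (N : Type u) [AddCommGroup N] [Module R N] : Prop :=
  (LinearMap.id : N →ₗ[R] N) ∈ IsLocalRing.maximalIdeal R • (⊤ : Submodule R (N →ₗ[R] N))

theorem eq_zero_of_covered (hA : Covered (R := R) A) (v : A)
    (hv : ∀ a ∈ IsLocalRing.maximalIdeal R, a • v = 0) : v = 0 := by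
  suffices ∀ ψ ∈ IsLocalRing.maximalIdeal R • (⊤ : Submodule R (A →ₗ[R] A)), ψ v = 0 from
    this _ hA
  intro ψ hψ
  refine Submodule.smul_induction_on hψ (fun a ha D _ => ?_) (fun p q hp hq => ?_)
  · rw [LinearMap.smul_apply, ← map_smul, hv a ha, map_zero]
  · rw [LinearMap.add_apply, hp, hq, add_zero]

theorem exists_solve_of_covered (hA : Covered (R := R) A)
    (z : IsLocalRing.maximalIdeal R → A)
    (hz : ∀ a b : IsLocalRing.maximalIdeal R, (a : R) • z b = (b : R) • z a) :
    ∃ w : A, ∀ a : IsLocalRing.maximalIdeal R, (a : R) • w = z a := by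
  suffices ∀ ψ ∈ IsLocalRing.maximalIdeal R • (⊤ : Submodule R (A →ₗ[R] A)),
      ∃ w : A, ∀ a : IsLocalRing.maximalIdeal R, (a : R) • w = ψ (z a) from
    (this _ hA)
  intro ψ hψ
  refine Submodule.smul_induction_on hψ (fun b hb D _ => ?_) ?_
  · refine ⟨D (z ⟨b, hb⟩), fun a => ?_⟩
    rw [LinearMap.smul_apply, ← map_smul, ← map_smul, hz a ⟨b, hb⟩]
  · rintro p q ⟨w, hw⟩ ⟨w', hw'⟩
    exact ⟨w + w', fun a => by rw [smul_add, hw, hw', LinearMap.add_apply]⟩

include hex h₀ in
/-- The case where the maximal ideal is the unit ideal on both modules. -/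
theorem depth_ge_of_covered [IsNoetherianRing R] [Module.Finite R M]
    (hA : Covered (R := R) A) (hB : Covered (R := R) B) :
    (2 : ℕ∞) ≤ LocCoh.depth R M := by
  rcases subsingleton_or_nontrivial M with hs | hnt
  · rw [LocCoh.depth, Groth.Agent.Depth.idealDepth_eq_top_of_subsingleton]
    exact le_top
  have hM0 : ∀ v : M, (∀ a ∈ IsLocalRing.maximalIdeal R, a • v = 0) → v = 0 := fun v hv =>
    h₀ (by
      rw [map_zero]
      exact eq_zero_of_covered hA _ fun a ha => by rw [← map_smul, hv a ha, map_zero])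
  have hno : ∀ p ∈ associatedPrimes R M, ¬ IsLocalRing.maximalIdeal R ≤ p := by
    intro p hp hle
    have hp' : IsAssociatedPrime p M := hp
    obtain ⟨hprime, f, hf⟩ := (isAssociatedPrime_iff_exists_injective_linearMap _ _).1 hp'
    have : f (Submodule.Quotient.mk 1) = 0 := hM0 _ fun a ha => by
      rw [← map_smul, ← Submodule.Quotient.mk_smul, smul_eq_mul, mul_one,
        (Submodule.Quotient.mk_eq_zero p).2 (hle ha), map_zero]
    have h1 := hf (this.trans (map_zero f).symm)
    exact hprime.ne_top ((Ideal.eq_top_iff_one p).2 ((Submodule.Quotient.mk_eq_zero p).1 h1))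
  obtain ⟨x, hx, hxreg⟩ := Groth.Agent.Depth.exists_isSMulRegular_of_forall_not_le hno
  have hno2 : ∀ p ∈ associatedPrimes R (QuotSMulTop x M), ¬ IsLocalRing.maximalIdeal R ≤ p := by
    intro p hp hle
    have hp' : IsAssociatedPrime p (QuotSMulTop x M) := hp
    obtain ⟨hprime, f, hf⟩ := (isAssociatedPrime_iff_exists_injective_linearMap _ _).1 hp'
    obtain ⟨y, hy⟩ := Submodule.Quotient.mk_surjective _ (f (Submodule.Quotient.mk 1))
    have hmem : ∀ a : IsLocalRing.maximalIdeal R, ∃ z : M, x • z = (a : R) • y := by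
      intro a
      have : (Submodule.Quotient.mk ((a : R) • y) : QuotSMulTop x M) = 0 := by
        rw [Submodule.Quotient.mk_smul, hy, ← map_smul, ← Submodule.Quotient.mk_smul,
          smul_eq_mul, mul_one, (Submodule.Quotient.mk_eq_zero p).2 (hle a.2), map_zero]
      rw [Submodule.Quotient.mk_eq_zero, Submodule.mem_smul_pointwise_iff_exists] at this
      obtain ⟨z, -, hz⟩ := this
      exact ⟨z, hz⟩
    choose z hz using hmem
    have hcomm : ∀ a b : IsLocalRing.maximalIdeal R, (a : R) • z b = (b : R) • z a := fun a b =>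
      hxreg (show x • ((a : R) • z b) = x • ((b : R) • z a) by
        rw [smul_comm x, hz, smul_comm x, hz, smul_comm])
    obtain ⟨w, hw⟩ := exists_solve_of_covered hA (fun a => d₀ (z a))
      (fun a b => by rw [← map_smul, ← map_smul, hcomm a b])
    have hw0 : d₁ w = 0 := eq_zero_of_covered hB _ fun a ha => by
      rw [← map_smul, hw ⟨a, ha⟩]
      exact (hex _).2 ⟨_, rfl⟩
    obtain ⟨m, rfl⟩ := (hex w).1 hw0
    have hxm : x • m = y := by
      rw [← sub_eq_zero]
      refine hM0 _ fun a ha => ?_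
      have : a • m = z ⟨a, ha⟩ := h₀ (by rw [map_smul]; exact hw ⟨a, ha⟩)
      rw [smul_sub, smul_comm, this, hz ⟨a, ha⟩, sub_self]
    have hy0 : f (Submodule.Quotient.mk 1) = 0 := by
      rw [← hy, Submodule.Quotient.mk_eq_zero, ← hxm]
      exact Submodule.smul_mem_pointwise_smul _ _ _ trivial
    have h1 := hf (hy0.trans (map_zero f).symm)
    exact hprime.ne_top ((Ideal.eq_top_iff_one p).2 ((Submodule.Quotient.mk_eq_zero p).1 h1))
  obtain ⟨y, hy, hyreg⟩ := Groth.Agent.Depth.exists_isSMulRegular_of_forall_not_le hno2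
  have hreg : IsWeaklyRegular M [x, y] := by
    rw [isWeaklyRegular_cons_iff, isWeaklyRegular_singleton_iff]
    exact ⟨hxreg, hyreg⟩
  have := Groth.Agent.Depth.le_idealDepth_of_isWeaklyRegular hreg
    (I := IsLocalRing.maximalIdeal R) (by simp only [List.mem_cons, List.not_mem_nil, or_false, forall_eq_or_imp, forall_eq]; exact ⟨hx, hy⟩)
  exact le_trans (by simp) this

end Groth.Agent.Depth47
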